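import Cfsg.Agent.H737.Pi.RankTwoB
import Cfsg.Agent.H176.Pi.Exc
import Cfsg.Agent.H190.Act
import Cfsg.Agent.ChevalleyStructure.D4U

/-!
# S4324: `³D₄(q)`, `s ∣ q⁶ - 1` (helper737 for helper176)

* `fun_D4` : a class function with few constituents vanishing on the `s`-regular elements.
-/

set_option autoImplicit false
set_option linter.unusedSectionVars false

namespace Cfsg.Agent.H737.Pi.TD4

open CoxeterSystem Cfsg.Agent.ChevalleyStructure.CoxeterGeom Cfsg.Agent.Tits.Roots Cfsg.Agent.Tits.Core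
  Cfsg.Agent.Tits.Exchange Cfsg.Agent.Nodes.Reps Cfsg.Agent.Nodes.BNOf Cfsg.Agent.Nodes.StabComb
  Cfsg.Agent.Nodes.Bruhat Cfsg.Agent.Nodes.OppDec Cfsg.Agent.Nodes.LeviDec Cfsg.Agent.Nodes.NormalForm
  Cfsg.Agent.KFacts.RgdOpp Cfsg.Agent.KFacts.RgdAut Cfsg.Agent.KFacts.RgdDiag Cfsg.Agent.H176.Pi
open Cfsg.Agent.Nodes.RGDChev Cfsg.Agent.Nodes.RGDFold Cfsg.Agent.Nodes.RGDFoldSL
open Cfsg.Agent.ChevalleyStructure.SL2Hom (up lo mem_closure_SL2)
open Cfsg.Lie Cfsg.Agent.ChevalleyStructure Cfsg.Agent.BiChar.TwDFour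
open Cfsg.Agent.Nodes.RGDTwD4 (hp J isCartan X T n rgd)

variable {K : Type} [Field K] {q : ℕ} {φ : K →+* K}

theorem T_comm : ∀ a ∈ T K q, ∀ b ∈ T K q, a * b = b * a := by
  intro x hx y hy
  have hx' : (x : GL chevD4.Idx K) ∈ chevD4.diagonalSubgroup K := (Subgroup.mem_inf.1 (Subgroup.mem_subgroupOf.1 hx)).1
  have hy' : (y : GL chevD4.Idx K) ∈ chevD4.diagonalSubgroup K := (Subgroup.mem_inf.1 (Subgroup.mem_subgroupOf.1 hy)).1
  obtain ⟨χ, hχ⟩ := HMatDiagAll.mem_torus.1 (HMatDiagAll.diagonalSubgroup_le_torus hp.inList hx')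
  obtain ⟨ψ, hψ⟩ := HMatDiagAll.mem_torus.1 (HMatDiagAll.diagonalSubgroup_le_torus hp.inList hy')
  apply Subtype.ext
  apply Units.ext
  rw [Subgroup.coe_mul, Subgroup.coe_mul, Units.val_mul, Units.val_mul, hχ, hψ, Matrix.diagonal_mul_diagonal,
    Matrix.diagonal_mul_diagonal]
  congr 1
  funext i
  exact mul_comm _ _

theorem card_T [Fintype K] (hq : IsPrimePow q) (hK : Fintype.card K = q ^ 3) (hφ : ∀ x, φ x = x ^ q) :
    Nat.card (T K q) = (q - 1) * (q ^ 3 - 1) := by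
  rw [← D4H1.card_H1 hq hK hφ]
  exact Nat.card_congr (Subgroup.subgroupOfEquivOfLe inf_le_right).toEquiv

open Cfsg.Agent.H190 in
theorem inv_T (hφ : ∀ x, φ x = x ^ q) : ∀ t ∈ T K q,
    (n hφ 0 * n hφ 1) ^ 3 * t * ((n hφ 0 * n hφ 1) ^ 3)⁻¹ = t⁻¹ := by
  intro t ht
  have ht' : (t : GL chevD4.Idx K) ∈ chevD4.diagonalSubgroup K := (Subgroup.mem_inf.1 (Subgroup.mem_subgroupOf.1 ht)).1
  have hD := hp.inList
  have htG := Elts.diagonal_le_group hD K ht'
  have hc : nI hp K (J 0) * nI hp K (J 1) ∈ chevD4.monomialSubgroup K := mul_mem (nI_mem hp K _) (nI_mem hp K _)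
  have hcG := Elts.monomial_le_group hD K hc
  have hcN : (⟨_, hcG⟩ : ↥(chevD4.group K)) ∈ NG chevD4 K := hc
  have key := conj_pow_neg hD hcN (m := 3) (fun x => ?_) ⟨_, htG⟩ ht'
  · have k2 := congrArg Subtype.val key
    apply Subtype.ext
    exact k2
  · -- the permutation of the roots
    have hs : ∀ i : Fin 4, (nn hp K i) ∈ chevD4.monomialSubgroup K := fun i => nn_mem_monomial hp i
    have h0 : ∀ (i : Fin 4) (r : Fin chevD4.nroots), ((NPerm.permHom hD K ⟨nn hp K i, hs i⟩ r : Fin chevD4.nroots) : ℕ) =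
        chevD4.reflectRoot i r := fun i r => NPerm.permHom_nG hD (lt_rank hp i) _ (Elts.coe_nG hD _ _) r
    have h1 : (⟨nI hp K (J 0) * nI hp K (J 1), hc⟩ : ↥(chevD4.monomialSubgroup K)) =
        ⟨nn hp K 1, hs 1⟩ * (⟨nn hp K 0, hs 0⟩ * (⟨nn hp K 2, hs 2⟩ * ⟨nn hp K 3, hs 3⟩)) := by
      apply Subtype.ext
      show ([1].map (nn hp K)).prod * ([0, 2, 3].map (nn hp K)).prod = nn hp K 1 * (nn hp K 0 * (nn hp K 2 * nn hp K 3))
      simp only [List.map_cons, List.map_nil, List.prod_cons, List.prod_nil, mul_one]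
    have h2 : ∀ r : Fin chevD4.nroots, ((pw hD hcN r : Fin chevD4.nroots) : ℕ) =
        chevD4.reflectRoot 1 (chevD4.reflectRoot 0 (chevD4.reflectRoot 2 (chevD4.reflectRoot 3 r))) := by
      intro r
      have h3 : pw hD hcN = NPerm.permHom hD K ⟨nI hp K (J 0) * nI hp K (J 1), hc⟩ := rfl
      rw [h3, h1, map_mul, map_mul, map_mul, Equiv.Perm.mul_apply, Equiv.Perm.mul_apply, Equiv.Perm.mul_apply, h0, h0, h0,
        h0]
      rfl
    rw [pow_succ, pow_two, Equiv.Perm.mul_apply, Equiv.Perm.mul_apply, h2, h2, h2]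
    have : ∀ x : Fin chevD4.nroots, chevD4.reflectRoot 1 (chevD4.reflectRoot 0 (chevD4.reflectRoot 2 (chevD4.reflectRoot 3
        (chevD4.reflectRoot 1 (chevD4.reflectRoot 0 (chevD4.reflectRoot 2 (chevD4.reflectRoot 3
        (chevD4.reflectRoot 1 (chevD4.reflectRoot 0 (chevD4.reflectRoot 2 (chevD4.reflectRoot 3 x))))))))))) =
        chevD4.nroots - 1 - x := by decide +kernel
    exact this x

/-- the range of the homomorphism of a node (`BiChar.TwDFour.range_Ph` in every characteristic) -/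
theorem range_Ph' [Fintype K] (hφ : ∀ x, φ x = x ^ q) (hle : twistedD4 K q ≤ D4Fixed.fix φ) (p : ℕ) [Fact p.Prime]
    [CharP K p] (hK : Fintype.card K = q ^ 3) (i : Fin 2) :
    (BiChar.TwDFour.Ph hφ hle i).range = X φ q (sr i) ⊔ X φ q (-sr i) := by
  have R := Nodes.RGDTwD4.rgd (K := K) cs hK hφ p
  have hcj : cj (Nodes.RGDTwD4.n hφ i) (Nodes.RGDTwD4.X φ q (sr i)) = Nodes.RGDTwD4.X φ q (-sr i) := by
    rw [R.conj i _ (isRoot_sr cs Nodes.RGDTwD4.isCartan i), rep_simple_sr]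
  apply le_antisymm
  · rintro _ ⟨g, rfl⟩
    have h1 : Subgroup.closure (Set.range (up (F := Fx φ ((Nodes.RGDTwNode.D4.rest i).length + 1))) ∪
        Set.range (lo (F := Fx φ ((Nodes.RGDTwNode.D4.rest i).length + 1)))) ≤
        (Nodes.RGDTwD4.X φ q (sr i) ⊔ Nodes.RGDTwD4.X φ q (-sr i)).comap (BiChar.TwDFour.Ph hφ hle i) := by
      refine (Subgroup.closure_le _).2 ?_
      rintro x (⟨t, rfl⟩ | ⟨t, rfl⟩)
      · exact Subgroup.mem_sup_left ((mem_X hφ hle i _).2 ⟨t, rfl⟩)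
      · refine Subgroup.mem_sup_right ?_
        rw [lo_eq, map_mul, map_mul, map_inv, BiChar.TwDFour.Ph_wS, ← hcj]
        exact conj_mem_cj.2 ((mem_X hφ hle i _).2 ⟨_, rfl⟩)
    exact h1 (mem_closure_SL2 g)
  · refine sup_le ?_ ?_
    · intro g hg
      obtain ⟨a, rfl⟩ := (mem_X hφ hle i g).1 hg
      exact ⟨_, rfl⟩
    · rw [← hcj]
      intro g hg
      rw [mem_cj] at hg
      obtain ⟨a, ha⟩ := (mem_X hφ hle i _).1 hg
      refine ⟨wS 1 * up a * (wS 1)⁻¹, ?_⟩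
      rw [map_mul, map_mul, map_inv, BiChar.TwDFour.Ph_wS, ← ha]
      group

/-- **case `s ∣ q³ - 1`** -/
theorem fun_A [Fintype K] (p : ℕ) [Fact p.Prime] [CharP K p] (hq : IsPrimePow q) (hK : Fintype.card K = q ^ 3) {s : ℕ}
    (hs : s.Prime) (hs2 : s ≠ 2) (hd : s ∣ q ^ 3 - 1) : Fun 5 s ↥(twistedD4 K q) := by
  obtain ⟨φ, hφ⟩ := D4Fixed.exists_frob hq hK
  have hle := D4Fixed.twisted_le_fix hK hφ
  have : Finite CoxeterMatrix.G₂.Group := Nodes.RGDChev.finite_W Cfsg.Agent.BiChar.GTwo.isType cs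
  have R := rgd (K := K) cs hK hφ p
  have hfin : Finite (Fx φ ((Nodes.RGDTwNode.D4.rest 0).length + 1)) := inferInstance
  have hcF : Nat.card (Fx φ ((Nodes.RGDTwNode.D4.rest 0).length + 1)) = q := by
    rw [← D4U.card_fix_field hq.one_lt hK hφ]
    refine Nat.card_congr (Equiv.subtypeEquivRight fun a => ?_)
    exact mem_Fx
  refine fun_torus R (i := 0) (j := 1) (KFacts.RgdFilt.GG_eq_top (Nodes.RGDTwD4.G1_eq_top cs hK hφ)) ?_ ?_ T_comm (inv_T hφ) hs hs2 (hd.trans ?_)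
  · decide
  · decide
  · exact dvd_relIndex R (BiChar.TwDFour.Ph hφ hle 0) (fun a => (mem_X hφ hle 0 _).2 ⟨a, rfl⟩) (BiChar.TwDFour.Ph_wS hφ hle 0)
      (fun d hd => BiChar.TwDFour.Ph_hS hφ hle 0 hd)
      (range_Ph' hφ hle p hK 0) (by rw [hcF]; exact card_T hq hK hφ)

/-- the node homomorphism -/
theorem sln (hφ : ∀ x, φ x = x ^ q) (hle : twistedD4 K q ≤ D4Fixed.fix φ) (i : Fin 2) :
    SLN (T K q) (n hφ) (X φ q) i (BiChar.TwDFour.Ph hφ hle i) where
  hX := mem_X hφ hle i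
  inj a ha := by
    have h1 : BiChar.TwDFour.Ph hφ hle i (up a) = BiChar.TwDFour.Ph hφ hle i (up 0) := by
      have hu : (up 0 : Matrix.SpecialLinearGroup (Fin 2) (Fx φ ((Nodes.RGDTwNode.D4.rest i).length + 1))) = 1 := by
        apply Subtype.ext
        exact Matrix.one_fin_two.symm
      rw [ha, hu, map_one]
    exact Phi_up_injective (Nodes.RGDTwD4.foldGrp hφ hle) (Nodes.RGDTwNode.D4.nodeOK i) (hf φ i) h1
  hw := BiChar.TwDFour.Ph_wS hφ hle i
  hh _ hd := BiChar.TwDFour.Ph_hS hφ hle i hd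

open Cfsg.Agent.H190 in
/-- the torus on the short root group -/
theorem act_one [Fintype K] (hφ : ∀ x, φ x = x ^ q) (hle : twistedD4 K q ≤ D4Fixed.fix φ) (p : ℕ) [Fact p.Prime]
    [CharP K p] (hK : Fintype.card K = q ^ 3) : ∀ t ∈ T K q, ∃ c, c ≠ 0 ∧ ∀ a,
      t * BiChar.TwDFour.Ph hφ hle 1 (up a) * t⁻¹ = BiChar.TwDFour.Ph hφ hle 1 (up (c * a)) := by
  intro t ht
  have ht' : (t : GL chevD4.Idx K) ∈ chevD4.diagonalSubgroup K := (Subgroup.mem_inf.1 (Subgroup.mem_subgroupOf.1 ht)).1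
  have R := rgd (K := K) cs hK hφ p
  have hD := hp.inList
  obtain ⟨c, hc⟩ : ∃ c, c = ent (t : GL chevD4.Idx K) (⟨18, by decide +kernel⟩ : Fin chevD4.nroots) := ⟨_, rfl⟩
  refine ⟨⟨c, mem_Fx_three hK hφ c⟩, ?_, fun a => ?_⟩
  · intro h0
    have h1 : c = 0 := congrArg Subtype.val h0
    rw [hc] at h1
    exact ent_ne_zero hD ht' _ h1
  · have h1 : t * BiChar.TwDFour.Ph hφ hle 1 (up a) * t⁻¹ ∈ X φ q (sr 1) := by
      have h2 := R.tor _ (isRoot_sr cs isCartan 1) t ht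
      rw [← h2]
      exact conj_mem_cj.2 ((mem_X hφ hle 1 _).2 ⟨a, rfl⟩)
    obtain ⟨b, hb⟩ := (mem_X hφ hle 1 _).1 h1
    rw [hb]
    have h3 := congrArg (Subtype.val : ↥(twistedD4 K q) → GL chevD4.Idx K) hb
    have e : ∀ a, ((BiChar.TwDFour.Ph hφ hle 1 (up a) : ↥(twistedD4 K q)) : GL chevD4.Idx K) =
        Elts.xG hD 18 (a : K) * (Elts.xG hD 13 (φ (a : K)) * (Elts.xG hD 12 (φ (φ (a : K))) * 1)) :=
      fun a => coe_Phi_up (Nodes.RGDTwD4.foldGrp hφ hle) (Nodes.RGDTwNode.D4.nodeOK 1) (hf φ 1) a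
    rw [Subgroup.coe_mul, Subgroup.coe_mul, Subgroup.coe_inv, e, e] at h3
    have c18 := conj_xG hD ht' (⟨18, by decide +kernel⟩ : Fin chevD4.nroots) (a : K)
    have c13 := conj_xG hD ht' (⟨13, by decide +kernel⟩ : Fin chevD4.nroots) (φ (a : K))
    have c12 := conj_xG hD ht' (⟨12, by decide +kernel⟩ : Fin chevD4.nroots) (φ (φ (a : K)))
    have e2 : (t : GL chevD4.Idx K) * (Elts.xG hD 18 (a : K) * (Elts.xG hD 13 (φ (a : K)) * (Elts.xG hD 12 (φ (φ (a : K))) * 1))) *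
        (t : GL chevD4.Idx K)⁻¹ = ((t : GL chevD4.Idx K) * Elts.xG hD 18 (a : K) * (t : GL chevD4.Idx K)⁻¹) *
        (((t : GL chevD4.Idx K) * Elts.xG hD 13 (φ (a : K)) * (t : GL chevD4.Idx K)⁻¹) *
        (((t : GL chevD4.Idx K) * Elts.xG hD 12 (φ (φ (a : K))) * (t : GL chevD4.Idx K)⁻¹) * 1)) := by group
    rw [e2, c18, c13, c12] at h3
    have h4 := D4Pos.lprod_inj [18, 13, 12] (by decide +kernel)
      (t := fun r => if r = 18 then c * a else if r = 13 then ent (t : GL chevD4.Idx K)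
        (⟨13, by decide +kernel⟩ : Fin chevD4.nroots) * φ a else ent (t : GL chevD4.Idx K)
        (⟨12, by decide +kernel⟩ : Fin chevD4.nroots) * φ (φ a))
      (t' := fun r => if r = 18 then (b : K) else if r = 13 then φ b else φ (φ b)) (by
        rw [← Nodes.RGDTwD4.xG_eq, hc]
        exact h3) 18 (by simp)
    have h5 : c * (a : K) = b := h4
    congr 2
    exact Subtype.ext h5.symm

/-- **case `s ∣ q³ + 1`** -/
theorem fun_B [Fintype K] (p : ℕ) [Fact p.Prime] [CharP K p] (hq : IsPrimePow q) (hK : Fintype.card K = q ^ 3) {s : ℕ}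
    (hs : s.Prime) (hs2 : s ≠ 2) (hsp : s ≠ p) (hd : s ∣ q ^ 3 + 1) : Fun 5 s ↥(twistedD4 K q) := by
  obtain ⟨φ, hφ⟩ := D4Fixed.exists_frob hq hK
  have hle := D4Fixed.twisted_le_fix hK hφ
  have : Finite CoxeterMatrix.G₂.Group := Nodes.RGDChev.finite_W Cfsg.Agent.BiChar.GTwo.isType cs
  have R := rgd (K := K) cs hK hφ p
  have hfin : Finite (Fx φ ((Nodes.RGDTwNode.D4.rest 1).length + 1)) := inferInstance
  have hch : CharP (Fx φ ((Nodes.RGDTwNode.D4.rest 1).length + 1)) p :=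
    (RingHom.charP_iff _ (Fx φ ((Nodes.RGDTwNode.D4.rest 1).length + 1)).subtype.injective p).2 inferInstance
  have hcF : Nat.card (Fx φ ((Nodes.RGDTwNode.D4.rest 1).length + 1)) = q ^ 3 := by
    have h1 : Fx φ ((Nodes.RGDTwNode.D4.rest 1).length + 1) = ⊤ := by
      rw [eq_top_iff]
      exact fun a _ => mem_Fx_three hK hφ a
    rw [h1, ← hK, ← Nat.card_eq_fintype_card]
    exact Nat.card_congr (Subfield.topEquiv (K := K)).toEquiv
  have hq1 := hq.one_lt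
  refine fun_nonsplit R (i := 1) (j := 0) (KFacts.RgdFilt.GG_eq_top (Nodes.RGDTwD4.G1_eq_top cs hK hφ)) ?_ ?_ ?_ ?_
    (sln hφ hle 1) (act_one hφ hle p hK) hs hs2 hsp ?_ ?_
  · decide
  · decide
  · decide
  · decide
  · rw [card_T hq hK hφ]
    intro h0
    have h1 : s ∣ q ^ 3 - 1 := by
      rcases (Nat.Prime.dvd_mul hs).1 h0 with h1 | h1
      · exact h1.trans (by simpa using Nat.sub_dvd_pow_sub_pow q 1 3)
      · exact h1
    have h2 : s ∣ 2 := by
      have h3 := (Nat.dvd_sub hd h1)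
      have h4 : q ^ 3 + 1 - (q ^ 3 - 1) = 2 := by
        have : 0 < q ^ 3 := by positivity
        omega
      rwa [h4] at h3
    exact hs2 ((Nat.prime_dvd_prime_iff_eq hs Nat.prime_two).1 h2)
  · rw [hcF]
    have : (q ^ 3) ^ 2 - 1 = (q ^ 3 + 1) * (q ^ 3 - 1) := by
      have := Nat.sq_sub_sq (q ^ 3) 1
      simpa using this
    rw [this]
    exact hd.mul_right _

universe u v

/-- transport of irreducible characters -/
def irrCongr {G : Type u} {H : Type v} [Group G] [Group H] (e : G ≃* H) : Cfsg.IrrCharacter G ≃ Cfsg.IrrCharacter H where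
  toFun χ := ⟨(χ : G → ℂ) ∘ e.symm.toMonoidHom, Cfsg.Agent.Characters.Core.isIrr_comp e.symm.toMonoidHom e.symm.surjective χ.2⟩
  invFun ψ := ⟨(ψ : H → ℂ) ∘ e.toMonoidHom, Cfsg.Agent.Characters.Core.isIrr_comp e.toMonoidHom e.surjective ψ.2⟩
  left_inv χ := Subtype.ext (funext fun g => congrArg (χ : G → ℂ) (e.symm_apply_apply g))
  right_inv ψ := Subtype.ext (funext fun g => congrArg (ψ : H → ℂ) (e.apply_symm_apply g))

theorem irrCongr_apply {G : Type u} {H : Type v} [Group G] [Group H] (e : G ≃* H) (χ : Cfsg.IrrCharacter G) (h : H) :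
    (irrCongr e χ : H → ℂ) h = (χ : G → ℂ) (e.symm h) := rfl

/-- `Fun` is invariant under isomorphisms -/
theorem fun_congr {G : Type u} {H : Type v} [Group G] [Group H] (e : G ≃* H) {N s : ℕ} (h : Fun N s G) : Fun N s H := by
  classical
  obtain ⟨I, a, χ₁, h1, h2, h3, h4, h5⟩ := h
  refine ⟨I.map (irrCongr e).toEmbedding, a ∘ (irrCongr e).symm, irrCongr e χ₁, fun g => h1 _, ?_, ?_, ?_, ?_⟩
  · exact Finset.mem_map.2 ⟨χ₁, h2, rfl⟩
  · show a ((irrCongr e).symm (irrCongr e χ₁)) ≠ 0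
    rwa [Equiv.symm_apply_apply]
  · rwa [Finset.card_map]
  · intro g hg
    rw [Finset.sum_map]
    have h6 : ¬ s ∣ orderOf (e.symm g) := by
      have h7 : orderOf (e.symm g) = orderOf g := orderOf_injective e.symm.toMonoidHom e.symm.injective g
      rwa [h7]
    rw [← h5 (e.symm g) h6]
    refine Finset.sum_congr rfl fun χ _ => ?_
    show a ((irrCongr e).symm (irrCongr e χ)) * (irrCongr e χ : H → ℂ) g = _
    rw [Equiv.symm_apply_apply, irrCongr_apply]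

/-- **`³D₄(q)`** -/
theorem fun_D4 {G : Type u} [Group G] {t q s : ℕ} (h : TwD4 t q G) (hs : s.Prime) (hs3 : 3 ≤ s) (hst : s ≠ t)
    (hd : s ∣ q ^ 6 - 1) : Fun 5 s G := by
  obtain ⟨F, _, _, _, hq, hK, ⟨e⟩⟩ := h
  have ht : Fact t.Prime := ⟨CharP.char_is_prime F t⟩
  have hs2 : s ≠ 2 := by omega
  have h1 : q ^ 6 - 1 = (q ^ 3 + 1) * (q ^ 3 - 1) := by
    have := Nat.sq_sub_sq (q ^ 3) 1
    rw [← pow_mul] at this
    simpa using this
  rw [h1] at hd
  refine fun_congr e.symm ?_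
  rcases (Nat.Prime.dvd_mul hs).1 hd with h2 | h2
  · exact fun_B t hq hK hs hs2 hst h2
  · exact fun_A t hq hK hs hs2 h2

end Cfsg.Agent.H737.Pi.TD4
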